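import Cfsg.Agent.H689.K547.M22
import Cfsg.Agent.H845.K547.Jordan
import Cfsg.Agent.S2062

/-!
# S4547: the row `M22` (helper689)

`row` : complete row.
-/

set_option autoImplicit false

namespace Cfsg.Agent.H689.K547.M22

open Cfsg Cfsg.Agent.H821.K547

universe u

/-- squares of automorphisms are inner -/
theorem sq_inner {S : Type u} [Group S] (h : Spor.IsoM22 S) (φ : MulAut S) :
    ∃ s : S, ∀ x, (φ ^ 2) x = s * x * s⁻¹ := by
  obtain ⟨e⟩ := h
  have h2 : (Inn ↥Spor.M22).index = 2 := Cfsg.Agent.S2062.result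
  obtain ⟨g, hg⟩ := Subgroup.mul_self_mem_of_index_two h2 ((e.symm.trans φ).trans e)
  refine ⟨e.symm g, fun x => ?_⟩
  have h1 := congrArg (fun ψ : MulAut ↥Spor.M22 => e.symm (ψ (e x))) hg.symm
  simpa [pow_two] using h1

theorem simple {S : Type u} [Group S] (h : Spor.IsoM22 S) : IsSimpleGroup S := by
  obtain ⟨e⟩ := h
  have hs : IsSimpleGroup Spor.M22 := Cfsg.Agent.SporadicA.MathieuRecog.simple_M22
  exact e.isSimpleGroup

theorem not_comm {S : Type u} [Group S] (h : Spor.IsoM22 S) : ¬ IsMulCommutative S := by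
  have hs := simple h
  have hfin : Finite S := by
    obtain ⟨e⟩ := h
    exact Finite.of_equiv _ e.symm.toEquiv
  have hc : Nat.card S = 443520 := by
    obtain ⟨e⟩ := h
    rw [Nat.card_congr e.toEquiv, SporadicA.MathieuRecog.card_M22]
  intro hcomm
  have h1 : (Nat.card S).Prime := by
    let i : CommGroup S := { ‹Group S› with mul_comm := fun a b => hcomm.is_comm.comm a b }
    have hs' : @IsSimpleGroup S i.toGroup := hs
    exact @IsSimpleGroup.prime_card S i hs'
  rw [hc] at h1
  exact absurd h1 (by norm_num)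

/-- **the row `M22`** -/
theorem row {S : Type u} [Group S] (h : Spor.IsoM22 S) : Row S := by
  have hs := simple h
  have hfin : Finite S := by
    obtain ⟨e⟩ := h
    exact Finite.of_equiv _ e.symm.toEquiv
  exact ⟨base h, fun τ _ h2 => ⟨fun _ => Cfsg.Agent.H845.K547.d3_autExt (not_comm h) (d3 h) (sq_inner h τ) h2,
    fun _ => gInv3 h τ⟩⟩

end Cfsg.Agent.H689.K547.M22
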