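import Cfsg.Agent.H689.K547.Pairs
import Cfsg.Agent.H921.K4.M22
import Cfsg.Agent.SporadicStructure.M24El

/-!
# S4547: the row `M₂₂`, base part (helper689)

A Sylow 2-subgroup of `M₂₂` (inside `2⁴ : A₆`, the stabiliser of a hexad) preserves three pairs: two points, two pairs
of points (the diagonals of the other four points of the hexad), and two blocks of eight points.
-/

set_option autoImplicit false

namespace Cfsg.Agent.H689.K547.M22

open Cfsg Cfsg.Agent.H821.K547 Cfsg.Agent.H601.K4 Subgroup
open Cfsg.Agent.SporadicA.GolayBase Cfsg.Agent.SporadicA.GolayPerm Cfsg.Agent.SporadicStructure.M24El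
open scoped Pointwise

universe u

/-- the masks of the sets -/
def xm : ℕ → ℕ
  | 0 => 4
  | 1 => 1056
  | _ => 4845570

def ym : ℕ → ℕ
  | 0 => 16
  | 1 => 2112
  | _ => 3539848

def X (i : Fin 3) : Finset GolayPt := fin (xm i)
def Y (i : Fin 3) : Finset GolayPt := fin (ym i)

/-- `P` packs an element of `M₂₂` preserving the pairs -/
def chk (P : ℕ) : Bool :=
  ok P && Nat.beq (papp P 23) 23 && Nat.beq (papp P 0) 0 && (List.range 3).all fun i =>
    (Nat.beq (pimg P (xm i)) (xm i) && Nat.beq (pimg P (ym i)) (ym i)) ||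
      (Nat.beq (pimg P (xm i)) (ym i) && Nat.beq (pimg P (ym i)) (xm i))

theorem chk_iff {P : ℕ} (h : chk P = true) : ok P = true ∧ papp P 23 = 23 ∧ papp P 0 = 0 ∧ ∀ i < 3,
    (pimg P (xm i) = xm i ∧ pimg P (ym i) = ym i) ∨ (pimg P (xm i) = ym i ∧ pimg P (ym i) = xm i) := by
  unfold chk at h
  simpa only [Bool.and_eq_true, Nat.beq_eq, List.all_eq_true, List.mem_range, Bool.or_eq_true, and_assoc] using h

theorem exists_el {P : ℕ} (h : chk P = true) : ∃ g : Spor.M22, g ∈ pr Spor.M22 X Y ∧
    (∀ p : GolayPt, g • p = pt (papp P (idx p))) ∧ ∀ m, g • fin m = fin (pimg P m) := by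
  obtain ⟨h1, h2, h3, h4⟩ := chk_iff h
  have hmem : (el P : Equiv.Perm GolayPt) ∈ Spor.M22 := by
    refine ⟨⟨(el P).2, ?_⟩, ?_⟩
    · change el P • (none : GolayPt) = none
      rw [el_smul_pt h1]
      change pt (papp P 23) = none
      rw [h2]
      rfl
    · change el P • (some 0 : GolayPt) = some 0
      rw [el_smul_pt h1]
      change pt (papp P 0) = some 0
      rw [h3]
      rfl
  have h5 : ∀ m, (⟨el P, hmem⟩ : Spor.M22) • fin m = fin (pimg P m) := fun m => el_smul_fin h1 m
  refine ⟨⟨el P, hmem⟩, fun i => ?_, fun p => el_smul_pt h1 p, h5⟩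
  unfold X Y
  rw [h5, h5]
  rcases h4 i i.2 with ⟨h6, h7⟩ | ⟨h6, h7⟩
  · left; rw [h6, h7]; exact ⟨rfl, rfl⟩
  · right; rw [h6, h7]; exact ⟨rfl, rfl⟩

theorem X_ne_Y (i : Fin 3) : X i ≠ Y i := by
  intro h
  have h1 : ∀ j, (xm i).testBit (idx (pt j)) = true → (ym i).testBit (idx (pt j)) = true := by
    intro j hj
    have h2 : pt j ∈ X i := mem_fin.2 hj
    rw [h] at h2
    exact mem_fin.1 h2
  fin_cases i
  · exact absurd (h1 2 (by decide)) (by decide)
  · exact absurd (h1 5 (by decide)) (by decide)
  · exact absurd (h1 1 (by decide)) (by decide)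

/-- elements swapping one pair -/
def three : List ℕ := [973096267945776834731806873318821920, 984314827592033236074561707266279456,
  967739223789245171407146504132003936]

theorem three_chk : ∀ i < 3, chk (three.getD i 0) = true ∧ ∀ j < 3,
    (i ≠ j → pimg (three.getD i 0) (xm j) = xm j) ∧ (i = j → pimg (three.getD i 0) (xm j) = ym j) := by
  decide +kernel

theorem surj : Function.Surjective (prHom (G := Spor.M22) X Y X_ne_Y) := by
  choose g hg1 _ hg3 using fun i : Fin 3 => exists_el (three_chk i i.2).1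
  refine surj_three X_ne_Y g hg1 fun i j => ?_
  have h1 : g i • X j = fin (pimg (three.getD i 0) (xm j)) := hg3 i (xm j)
  have h2 := (three_chk i i.2).2 j j.2
  constructor
  · rintro h3 rfl
    rw [h1, h2.2 rfl] at h3
    exact X_ne_Y i h3.symm
  · intro h3
    rw [h1, h2.1 (fun h4 => h3 (Fin.ext h4))]
    rfl

def L16 : List ℕ := [984818244535754528103549039458486304, 967739223789245171407146504132003936,
  978241746458226444833005867658250464, 983553042649537266979977019204733184, 959823939071994704882402347086186784,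
  974394222122509349096603230276913536, 976539006901119804582877792120867232, 971700361611140356443901154824849856,
  980747918883362939279568022996060640, 972388651884523380316328689283009024, 965094429999691373696704173595626016,
  981940260449521198767676458684353088, 975141542956546445243913353447475808, 979236149903553240597937305795791488,
  965823287528192349793434105431984800, 957028651706772161000819827381930688]

def L4 : List ℕ := [984818244535754528103549039458486304, 984085346507332711729061765015308320,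
  984286808134369956147200099073951776, 984314827592033236074561707266279456]

theorem L16_chk : ∀ j < 24, Nat.testBit (4845570 ||| 3539848) j = true →
    (L16.any fun P => chk P && Nat.beq (papp P 1) j) = true := by decide +kernel

theorem L4_chk : ∀ j < 24, Nat.testBit (1056 ||| 2112) j = true →
    (L4.any fun P => chk P && Nat.beq (papp P 1) 1 && Nat.beq (papp P 5) j) = true := by decide +kernel

theorem L2_chk : chk 973096267945776834731806873318821920 = true ∧ papp 973096267945776834731806873318821920 1 = 1 ∧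
    papp 973096267945776834731806873318821920 5 = 5 ∧
    (∀ i < 24, papp 973096267945776834731806873318821920 (papp 973096267945776834731806873318821920 i) = i) ∧
    papp 973096267945776834731806873318821920 2 ≠ 2 := by decide +kernel

instance : Finite Spor.M22 := Nat.finite_of_card_ne_zero (by rw [SporadicA.MathieuRecog.card_M22]; norm_num)

theorem smul_mem_pair {g : Spor.M22} (hg : g ∈ pr Spor.M22 X Y) (i : Fin 3) {p : GolayPt} (hp : p ∈ X i) :
    g • p ∈ fin (xm i ||| ym i) := by
  rw [fin_or, Finset.mem_union]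
  rcases hg i with ⟨h1, -⟩ | ⟨h1, -⟩
  · left
    have := Finset.smul_mem_smul_finset (a := g) hp
    rw [h1] at this
    exact this
  · right
    have := Finset.smul_mem_smul_finset (a := g) hp
    rw [h1] at this
    exact this

theorem card_pr : 128 ∣ Nat.card (pr Spor.M22 X Y) := by
  have e1 := card_eq_mul (pr Spor.M22 X Y) (pt 1) (fin (xm 2 ||| ym 2))
    (fun g hg => smul_mem_pair hg 2 (mem_fin.2 (by decide))) (by
    intro y hy
    have h1 := L16_chk (idx y) (idx_lt y) (mem_fin.1 hy)
    obtain ⟨P, -, hP⟩ := List.any_eq_true.1 h1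
    rw [Bool.and_eq_true] at hP
    obtain ⟨g, hg1, hg2, -⟩ := exists_el hP.1
    refine ⟨g, hg1, ?_⟩
    rw [hg2]
    change pt (papp P 1) = y
    rw [Nat.eq_of_beq_eq_true hP.2, pt_idx])
  have e2 := card_eq_mul (pr Spor.M22 X Y ⊓ MulAction.stabilizer Spor.M22 (pt 1)) (pt 5) (fin (xm 1 ||| ym 1))
    (fun g hg => smul_mem_pair hg.1 1 (mem_fin.2 (by decide))) (by
    intro y hy
    have h1 := L4_chk (idx y) (idx_lt y) (mem_fin.1 hy)
    obtain ⟨P, -, hP⟩ := List.any_eq_true.1 h1
    rw [Bool.and_eq_true, Bool.and_eq_true] at hP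
    obtain ⟨g, hg1, hg2, -⟩ := exists_el hP.1.1
    refine ⟨g, ⟨hg1, ?_⟩, ?_⟩
    · change g • pt 1 = pt 1
      rw [hg2]
      change pt (papp P 1) = pt 1
      rw [Nat.eq_of_beq_eq_true hP.1.2]
    · rw [hg2]
      change pt (papp P 5) = y
      rw [Nat.eq_of_beq_eq_true hP.2, pt_idx])
  have e3 : 2 ∣ Nat.card ↥(pr Spor.M22 X Y ⊓ MulAction.stabilizer Spor.M22 (pt 1) ⊓
      MulAction.stabilizer Spor.M22 (pt 5)) := by
    obtain ⟨h1, h2, h3, h4, h5⟩ := L2_chk
    obtain ⟨g, hg1, hg2, -⟩ := exists_el h1
    have hm : g ∈ pr Spor.M22 X Y ⊓ MulAction.stabilizer Spor.M22 (pt 1) ⊓ MulAction.stabilizer Spor.M22 (pt 5) := by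
      refine ⟨⟨hg1, ?_⟩, ?_⟩
      · change g • pt 1 = pt 1
        rw [hg2]
        change pt (papp _ 1) = pt 1
        rw [h2]
      · change g • pt 5 = pt 5
        rw [hg2]
        change pt (papp _ 5) = pt 5
        rw [h3]
    have ho : orderOf (⟨g, hm⟩ : ↥(pr Spor.M22 X Y ⊓ MulAction.stabilizer Spor.M22 (pt 1) ⊓
        MulAction.stabilizer Spor.M22 (pt 5))) = 2 := by
      refine orderOf_eq_prime (p := 2) ?_ ?_
      · apply Subtype.ext
        rw [Subgroup.coe_pow, Subgroup.coe_one, sq]
        apply Subtype.ext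
        ext1 p
        change g • (g • p) = p
        rw [hg2, hg2, idx_pt (papp_lt (ok_iff.1 (chk_iff h1).1).1 (idx_lt p)), h4 _ (idx_lt p), pt_idx]
      · intro h6
        have h7 : g = 1 := congrArg Subtype.val h6
        have h8 := hg2 (pt 2)
        rw [h7, one_smul] at h8
        have h9 := congrArg idx h8
        change 2 = idx (pt (papp _ 2)) at h9
        rw [idx_pt (papp_lt (ok_iff.1 (chk_iff h1).1).1 (by norm_num))] at h9
        exact h5 h9.symm
    rw [← ho]
    exact orderOf_dvd_natCard _
  obtain ⟨k, hk⟩ := e3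
  rw [hk] at e2
  rw [e2] at e1
  rw [e1, card_fin, card_fin]
  have c1 : popcount (xm 2 ||| ym 2) = 16 := by decide +kernel
  have c2 : popcount (xm 1 ||| ym 1) = 4 := by decide +kernel
  have c3 : ∀ a b : ℕ, a = 16 → b = 4 → 128 ∣ a * (b * (2 * k)) := by
    rintro a b rfl rfl
    exact ⟨k, by ring⟩
  exact c3 _ _ c1 c2

theorem odd_index : ¬ 2 ∣ (pr Spor.M22 X Y).index := by
  intro h
  have h1 := (pr Spor.M22 X Y).card_mul_index
  rw [SporadicA.MathieuRecog.card_M22] at h1
  have h2 : 128 * 2 ∣ 443520 := by rw [← h1]; exact mul_dvd_mul card_pr h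
  omega

theorem d3 {S : Type u} [Group S] (h : Spor.IsoM22 S) : D3 S := by
  obtain ⟨e⟩ := h
  have : Finite S := Finite.of_equiv _ e.symm.toEquiv
  exact d3_of_map e _ odd_index _ surj

/-- every automorphism has three invariant good characters -/
theorem gInv3 {S : Type u} [Group S] (h : Spor.IsoM22 S) (τ : MulAut S) : GInv3 τ := by
  have : Finite S := by
    obtain ⟨e⟩ := h
    exact Finite.of_equiv _ e.symm.toEquiv
  obtain ⟨χ, h1, h2⟩ := H921.K4.M22.exists_uniq (H921.K4.M22.isM22 h)
  have h3 : (3 : ℕ) ≤ 6 := by norm_num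
  exact ⟨fun i => χ (Fin.castLE h3 i), h2.comp (Fin.castLE_injective h3), fun i => ⟨(h1 _).good, (h1 _).inv τ⟩⟩

theorem base {S : Type u} [Group S] (h : Spor.IsoM22 S) : BaseRow S := by
  have : Finite S := by
    obtain ⟨e⟩ := h
    exact Finite.of_equiv _ e.symm.toEquiv
  exact Or.inl ⟨H921.K4.M22.good5 h, d3 h⟩

end Cfsg.Agent.H689.K547.M22
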